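import Groth.Agent.S12124
import Mathlib

/-!
# Integrality of the sections over the punctured spectrum of a reduced local ring
-/

set_option autoImplicit false
set_option linter.style.haveILetI false
set_option backward.isDefEq.respectTransparency false
set_option maxHeartbeats 1000000
universe u

open IsLocalRing

noncomputable section

namespace Groth.Agent.PunctInt

/-- A fraction multiplied into the integral elements by powers of every element of the maximal ideal
is integral, when the finite extensions have no closed point of height at most one. -/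
theorem isIntegral_domain {D : Type u} [CommRing D] [IsDomain D] [IsNoetherianRing D] [IsLocalRing D]
    (x : FractionRing D) (hx : ∀ t ∈ maximalIdeal D, ∃ n : ℕ, IsIntegral D (algebraMap D (FractionRing D) t ^ n * x))
    (hd : ∀ C : Subalgebra D (FractionRing D), Module.Finite D C → ∀ p : Ideal C, p.IsPrime →
      p.comap (algebraMap D C) = maximalIdeal D → p.height ≠ 1) :
    IsIntegral D x := by
  obtain ⟨C, hC, -, hmem, -⟩ := S12124.result (A := D)
  haveI := hC
  refine (hmem x).2 fun p hp hp1 => ?_
  haveI := hp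
  obtain ⟨t, htm, htp⟩ : ∃ t ∈ maximalIdeal D, algebraMap D C t ∉ p := by
    by_contra hno
    push Not at hno
    exact hd C hC p hp (((maximalIdeal.isMaximal D).eq_of_le (Ideal.IsPrime.ne_top inferInstance)
      (fun t ht => hno t ht)).symm) hp1
  obtain ⟨n, hn⟩ := hx t htm
  refine ⟨algebraMap D C t ^ n, fun h => htp (hp.mem_of_pow_mem n h), ?_⟩
  have e : ((algebraMap D C t ^ n : C) : FractionRing D) * x = algebraMap D (FractionRing D) t ^ n * x := by
    rw [SubmonoidClass.coe_pow]; rfl
  rw [e]
  exact hn.tower_top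

/-- The height drops when passing to a quotient of an integrally extended subring carrying the
primes under `N`. -/
theorem height_le_of_subquotient (R : Type u) [CommRing R] {S : Type u} [CommRing S] [Algebra R S]
    (C₁ : Subalgebra R S) [Algebra.IsIntegral C₁ S] {C : Type u} [CommRing C] (θ : C₁ →+* C)
    (hθ : Function.Surjective θ) (N : Ideal S) [N.IsPrime] (p : Ideal C) [p.IsPrime]
    (hNp : N.comap (algebraMap C₁ S) = p.comap θ)
    (hker : ∀ q : Ideal S, q.IsPrime → q ≤ N → RingHom.ker θ ≤ q.comap (algebraMap C₁ S)) :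
    N.height ≤ p.height := by
  rw [PrimeSpectrum.height_eq_orderHeight ⟨N, inferInstance⟩, PrimeSpectrum.height_eq_orderHeight ⟨p, inferInstance⟩]
  refine Order.height_le fun l hl => ?_
  have hle : ∀ i, (l i).asIdeal ≤ N := fun i => by
    have : l i ≤ l.last := LTSeries.monotone l (Fin.le_last i)
    rw [hl] at this
    exact this
  let G : Fin (l.length + 1) → Ideal C := fun i => ((l i).asIdeal.comap (algebraMap C₁ S)).map θ
  have hprime : ∀ i, (G i).IsPrime := fun i =>
    Ideal.map_isPrime_of_surjective hθ (hker _ (l i).2 (hle i))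
  have hcomap : ∀ i, (G i).comap θ = (l i).asIdeal.comap (algebraMap C₁ S) := fun i => by
    rw [Ideal.comap_map_of_surjective θ hθ, ← RingHom.ker_eq_comap_bot, sup_eq_left]
    exact hker _ (l i).2 (hle i)
  let l' : LTSeries (PrimeSpectrum C) :=
    { length := l.length
      toFun := fun i => ⟨G i, hprime i⟩
      step := fun i => by
        have h1 : (l i.castSucc).asIdeal.comap (algebraMap C₁ S) < (l i.succ).asIdeal.comap (algebraMap C₁ S) :=
          Ideal.IsIntegral.comap_lt_comap (l.step i)
        show G i.castSucc < G i.succ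
        refine lt_of_le_not_ge (Ideal.map_mono h1.le) fun h => h1.not_ge ?_
        rw [← hcomap, ← hcomap]; exact Ideal.comap_mono h }
  refine Order.length_le_height (p := l') (le_of_eq ?_)
  refine PrimeSpectrum.ext ?_
  show (l.last.asIdeal.comap (algebraMap C₁ S)).map θ = p
  rw [hl, hNp, Ideal.map_comap_of_surjective θ hθ]

variable (A : Type u) [CommRing A] [IsNoetherianRing A] [IsReduced A]

theorem isMaximal_of_isPrime (P : Ideal (FractionRing A)) [P.IsPrime] : P.IsMaximal := by
  have key : ∀ Q : Ideal (FractionRing A), Q.IsPrime → Q.comap (algebraMap A (FractionRing A)) ∈ minimalPrimes A := by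
    intro Q hQ
    haveI := hQ
    have hdis := ((IsLocalization.isPrime_iff_isPrime_disjoint (nonZeroDivisors A) (FractionRing A) Q).1 hQ).2
    let q := Q.comap (algebraMap A (FractionRing A))
    obtain ⟨p, hp, hle⟩ : ∃ p ∈ minimalPrimes A, q ≤ p := by
      have hfin := Ideal.finite_minimalPrimes_of_isNoetherianRing A ⊥
      have hsub : (q : Set A) ⊆ ⋃ p ∈ (↑hfin.toFinset : Set (Ideal A)), (p : Set A) := fun a ha => by
        have hnz : a ∉ nonZeroDivisors A := fun h => hdis.le_bot ⟨h, ha⟩
        rw [mem_nonZeroDivisors_iff_right] at hnz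
        push Not at hnz
        obtain ⟨y, hy, hy0⟩ := hnz
        rw [hfin.coe_toFinset, Ideal.iUnion_minimalPrimes]
        have hrad : (⊥ : Ideal A).radical = ⊥ := nilradical_eq_zero A
        rw [Set.mem_setOf_eq, hrad]
        exact ⟨y, hy0, by simpa [mul_comm] using hy⟩
      obtain ⟨p, hp, hle⟩ := (Ideal.subset_union_prime (s := hfin.toFinset) (f := id) q q
        (fun s hs _ _ => (hfin.mem_toFinset.1 hs).1.1)).1 hsub
      exact ⟨p, hfin.mem_toFinset.1 hp, hle⟩
    have : q = p := le_antisymm hle (hp.2 ⟨inferInstance, bot_le⟩ hle)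
    show q ∈ minimalPrimes A
    rw [this]; exact hp
  obtain ⟨M, hM, hPM⟩ := Ideal.exists_le_maximal P (Ideal.IsPrime.ne_top ‹_›)
  have h : P.comap (algebraMap A (FractionRing A)) = M.comap (algebraMap A (FractionRing A)) :=
    le_antisymm (Ideal.comap_mono hPM) ((key M hM.isPrime).2 ⟨inferInstance, bot_le⟩ (Ideal.comap_mono hPM))
  have : P = M := by
    exact (IsLocalization.map_comap (nonZeroDivisors A) (FractionRing A) P).symm.trans
      ((congrArg (Ideal.map (algebraMap A (FractionRing A))) h).trans
        (IsLocalization.map_comap (nonZeroDivisors A) (FractionRing A) M))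
  exact this ▸ hM

theorem finite_maximals : Finite {M : Ideal (FractionRing A) // M.IsMaximal} := by
  haveI : IsNoetherianRing (FractionRing A) := IsLocalization.isNoetherianRing (nonZeroDivisors A) _ inferInstance
  refine ((Ideal.finite_minimalPrimes_of_isNoetherianRing (FractionRing A) ⊥).subset fun M hM => ?_).to_subtype
  refine ⟨⟨(hM : M.IsMaximal).isPrime, bot_le⟩, fun q hq hle => ?_⟩
  haveI := hq.1
  exact ((isMaximal_of_isPrime A q).eq_of_le (Ideal.IsMaximal.ne_top hM) hle).ge

variable {A}

theorem eq_zero_of_forall_mem {z : FractionRing A} (h : ∀ M : Ideal (FractionRing A), M.IsMaximal → z ∈ M) :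
    z = 0 := by
  haveI : IsReduced (FractionRing A) := inferInstance
  have : z ∈ nilradical (FractionRing A) := by
    rw [nilradical_eq_sInf]
    exact Submodule.mem_sInf.2 fun P hP => h P (by haveI : Ideal.IsPrime P := hP; exact isMaximal_of_isPrime A P)
  rwa [nilradical_eq_zero] at this

/-- Integrality can be tested modulo the maximal ideals of the total ring of fractions. -/
theorem isIntegral_of_quotients (x : FractionRing A)
    (h : ∀ M : Ideal (FractionRing A), M.IsMaximal → IsIntegral A (Ideal.Quotient.mk M x)) :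
    IsIntegral A x := by
  classical
  haveI := finite_maximals A
  haveI := Fintype.ofFinite {M : Ideal (FractionRing A) // M.IsMaximal}
  choose f hf hfx using fun M : {M : Ideal (FractionRing A) // M.IsMaximal} => h M.1 M.2
  refine ⟨∏ M, f M, Polynomial.monic_prod_of_monic _ _ fun M _ => hf M, eq_zero_of_forall_mem fun M hM => ?_⟩
  rw [Polynomial.eval₂_finsetProd]
  refine Ideal.prod_mem M (i := (⟨M, hM⟩ : {M : Ideal (FractionRing A) // M.IsMaximal})) (Finset.mem_univ _) ?_
  rw [← Ideal.Quotient.eq_zero_iff_mem, Polynomial.hom_eval₂]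
  exact hfx ⟨M, hM⟩

/-- A lift with prescribed component and the others zero. -/
theorem exists_component (M : Ideal (FractionRing A)) (hM : M.IsMaximal) (y : FractionRing A ⧸ M) :
    ∃ z : FractionRing A, Ideal.Quotient.mk M z = y ∧
      ∀ N : Ideal (FractionRing A), N.IsMaximal → N ≠ M → z ∈ N := by
  classical
  haveI := finite_maximals A
  obtain ⟨w, rfl⟩ := Ideal.Quotient.mk_surjective y
  obtain ⟨z, hz⟩ := Ideal.exists_forall_sub_mem_ideal
    (I := fun N : {M : Ideal (FractionRing A) // M.IsMaximal} => N.1)
    (fun a b hab => Ideal.isCoprime_iff_sup_eq.2 (a.2.coprime_of_ne b.2 fun e => hab (Subtype.ext e)))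
    (fun N => if N.1 = M then w else 0)
  refine ⟨z, Ideal.Quotient.eq.2 (by simpa using hz ⟨M, hM⟩), fun N hN hne => by simpa [hne] using hz ⟨N, hN⟩⟩

variable [IsLocalRing A]

theorem isIntegral_of_forall_pow (x : FractionRing A)
    (hdim : ∀ (m' : Ideal ↥(integralClosure A (FractionRing A))) [m'.IsMaximal],
      m'.comap (algebraMap A ↥(integralClosure A (FractionRing A))) = maximalIdeal A → 2 ≤ m'.height)
    (hx : ∀ t ∈ maximalIdeal A, ∃ n : ℕ, IsIntegral A (algebraMap A (FractionRing A) t ^ n * x)) :
    IsIntegral A x := by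
  refine isIntegral_of_quotients x fun M hM => ?_
  haveI := hM
  let K := FractionRing A
  let L := K ⧸ M
  letI : Field L := Ideal.Quotient.field M
  let I : Ideal A := M.comap (algebraMap A K)
  let D := A ⧸ I
  haveI : IsLocalRing D := IsLocalRing.of_surjective' (Ideal.Quotient.mk I) Ideal.Quotient.mk_surjective
  let ψ : D →+* L := Ideal.quotientMap M (algebraMap A K) le_rfl
  have hψ : Function.Injective ψ := Ideal.quotientMap_injective
  letI : Algebra D L := ψ.toAlgebra
  haveI : IsScalarTower A D L := IsScalarTower.of_algebraMap_eq fun a => rfl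
  haveI : FaithfulSMul D L := (faithfulSMul_iff_algebraMap_injective D L).2 hψ
  haveI : IsFractionRing D L := IsFractionRing.of_field _ _ fun y => by
    obtain ⟨y, rfl⟩ := Ideal.Quotient.mk_surjective y
    obtain ⟨a, s, rfl⟩ := IsLocalization.exists_mk'_eq (nonZeroDivisors A) y
    refine ⟨Ideal.Quotient.mk I a, Ideal.Quotient.mk I (s : A), ?_⟩
    have hu : IsUnit (Ideal.Quotient.mk M (algebraMap A K (s : A))) :=
      (IsLocalization.map_units K s).map (Ideal.Quotient.mk M)
    show _ = Ideal.Quotient.mk M (algebraMap A K a) / Ideal.Quotient.mk M (algebraMap A K (s : A))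
    rw [eq_div_iff hu.ne_zero, ← map_mul, IsLocalization.mk'_spec]
  let e : L ≃ₐ[D] FractionRing D := (FractionRing.algEquiv D L).symm
  let π : K →+* FractionRing D := (e.toRingEquiv.toRingHom).comp (Ideal.Quotient.mk M)
  have hπA : ∀ a, π (algebraMap A K a) = algebraMap D (FractionRing D) (Ideal.Quotient.mk I a) := fun a =>
    e.commutes (Ideal.Quotient.mk I a)
  have hmapI : ∀ z : K, IsIntegral A z → IsIntegral D (π z) := fun z ⟨f, hf, hfz⟩ => by
    refine ⟨f.map (Ideal.Quotient.mk I), hf.map _, ?_⟩
    rw [Polynomial.eval₂_map]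
    have := congrArg π hfz
    rw [map_zero, Polynomial.hom_eval₂] at this
    rw [show (algebraMap D (FractionRing D)).comp (Ideal.Quotient.mk I) = π.comp (algebraMap A K) from
      RingHom.ext fun a => (hπA a).symm]
    exact this
  suffices h : IsIntegral D (π x) by
    have h1 : IsIntegral D (Ideal.Quotient.mk M x) := by
      have h2 := h.map e.symm.toAlgHom
      simpa [π] using h2
    haveI : Algebra.IsIntegral A D := inferInstance
    exact isIntegral_trans (A := D) _ h1
  refine isIntegral_domain (π x) (fun t ht => ?_) ?_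
  · obtain ⟨a, rfl⟩ := Ideal.Quotient.mk_surjective t
    haveI := IsLocalHom.of_surjective (Ideal.Quotient.mk I) Ideal.Quotient.mk_surjective
    obtain ⟨n, hn⟩ := hx a ((map_mem_nonunits_iff (Ideal.Quotient.mk I) a).1 ht)
    refine ⟨n, ?_⟩
    have := hmapI _ hn
    rwa [map_mul, map_pow, hπA] at this
  intro C hC p hp hpm hp1
  haveI := hC
  haveI := hp
  let A' := integralClosure A K
  let C₁ : Subalgebra A A' :=
    { carrier := {z | π (z : K) ∈ C}
      mul_mem' := fun {a b} ha hb => by
        simp only [Set.mem_setOf_eq, Subalgebra.coe_mul, map_mul] at *; exact C.mul_mem ha hb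
      add_mem' := fun {a b} ha hb => by
        simp only [Set.mem_setOf_eq, Subalgebra.coe_add, map_add] at *; exact C.add_mem ha hb
      algebraMap_mem' := fun a => by
        show π (algebraMap A K a) ∈ C
        rw [hπA]; exact C.algebraMap_mem _ }
  let θ : C₁ →+* C := (π.comp ((A'.val.toRingHom).comp C₁.val.toRingHom)).codRestrict C.toSubring fun z => z.2
  have hπker : ∀ z, π z = 0 ↔ z ∈ M := fun z => by
    show e (Ideal.Quotient.mk M z) = 0 ↔ _
    rw [map_eq_zero_iff _ e.injective, Ideal.Quotient.eq_zero_iff_mem]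
  -- lifting an element of `C`
  have hθ : Function.Surjective θ := by
    rintro ⟨c, hc⟩
    obtain ⟨z, hz, hz'⟩ := exists_component M hM (e.symm c)
    have hπz : π z = c := by
      show e (Ideal.Quotient.mk M z) = c
      rw [hz, AlgEquiv.apply_symm_apply]
    have hint : IsIntegral A z := isIntegral_of_quotients z fun N hN => by
      by_cases hNM : N = M
      · subst hNM
        rw [hz]
        have h1 : IsIntegral D c := (Algebra.IsIntegral.isIntegral (R := D) (⟨c, hc⟩ : C)).map C.val
        have h2 : IsIntegral D (e.symm c) := h1.map e.symm.toAlgHom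
        haveI : Algebra.IsIntegral A D := inferInstance
        exact isIntegral_trans (A := D) _ h2
      · rw [Ideal.Quotient.eq_zero_iff_mem.2 (hz' N hN hNM)]; exact isIntegral_zero
    exact ⟨⟨⟨z, hint⟩, show π z ∈ C from hπz ▸ hc⟩, Subtype.ext hπz⟩
  let p₁ : Ideal C₁ := p.comap θ
  have hp₁m : p₁.comap (algebraMap A C₁) = maximalIdeal A := by
    ext a
    have : θ (algebraMap A C₁ a) = algebraMap D C (Ideal.Quotient.mk I a) := Subtype.ext (hπA a)
    rw [Ideal.mem_comap, Ideal.mem_comap, this, ← Ideal.mem_comap, hpm]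
    haveI := IsLocalHom.of_surjective (Ideal.Quotient.mk I) Ideal.Quotient.mk_surjective
    exact map_mem_nonunits_iff (Ideal.Quotient.mk I) a
  haveI : Algebra.IsIntegral A A' := IsIntegralClosure.isIntegral_algebra A K
  haveI : Algebra.IsIntegral C₁ A' := Algebra.IsIntegral.tower_top A
  obtain ⟨N, -, hN, hNp⟩ := Ideal.exists_ideal_over_prime_of_isIntegral (R := C₁) (S := A') p₁ (⊥ : Ideal A')
    (fun z hz => by
      have : z = 0 := Subtype.ext hz
      rw [this]; exact zero_mem _)
  haveI := hN
  have hNm : N.comap (algebraMap A A') = maximalIdeal A := by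
    rw [← hp₁m, ← hNp, Ideal.comap_comap]; rfl
  haveI : N.IsMaximal := Ideal.isMaximal_of_isIntegral_of_isMaximal_comap _ (by rw [hNm]; exact maximalIdeal.isMaximal A)
  -- the idempotent of the component
  obtain ⟨ε, hε, hε'⟩ := exists_component M hM 1
  have hεint : IsIntegral A ε := isIntegral_of_quotients ε fun Q hQ => by
    by_cases hQM : Q = M
    · subst hQM; rw [hε]; exact isIntegral_one
    · rw [Ideal.Quotient.eq_zero_iff_mem.2 (hε' Q hQ hQM)]; exact isIntegral_zero
  have hπε : π ε = 1 := by
    show e (Ideal.Quotient.mk M ε) = 1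
    rw [hε, map_one]
  let ε₁ : C₁ := ⟨⟨ε, hεint⟩, show π ε ∈ C from hπε ▸ C.one_mem⟩
  have hε₁ : θ ε₁ = 1 := Subtype.ext hπε
  have hkill : ∀ z : C₁, θ z = 0 → ε₁ * z = 0 := fun z hz => by
    refine Subtype.ext (Subtype.ext (eq_zero_of_forall_mem fun Q hQ => ?_))
    show ε * ((z : A') : K) ∈ Q
    by_cases hQM : Q = M
    · subst hQM; exact Ideal.mul_mem_left _ _ ((hπker _).1 (congrArg Subtype.val hz))
    · exact Ideal.mul_mem_right _ _ (hε' Q hQ hQM)
  have hker : ∀ q : Ideal A', q.IsPrime → q ≤ N → RingHom.ker θ ≤ q.comap (algebraMap C₁ A') := by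
    intro q hq hle z hz
    have h0 : (ε₁ : A') * (z : A') = 0 := congrArg Subtype.val (hkill z hz)
    refine (hq.mem_or_mem (h0 ▸ q.zero_mem)).resolve_left fun h => ?_
    have h1 : ε₁ ∈ p₁ := hNp ▸ hle h
    exact hp.ne_top ((Ideal.eq_top_iff_one _).2 (hε₁ ▸ h1))
  have h2 := (hdim N hNm).trans (height_le_of_subquotient A C₁ θ hθ N p hNp hker)
  rw [hp1] at h2
  exact absurd h2 (by decide)

end Groth.Agent.PunctInt

end
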