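import Groth.Agent.PunctInt.Basic
import Groth.Prelude.Def_FEt

/-!
# Sections over the punctured spectrum as fractions
-/

set_option autoImplicit false
set_option linter.style.haveILetI false
set_option backward.isDefEq.respectTransparency false
set_option backward.isDefEq.respectTransparency.types false
universe u

open CategoryTheory CategoryTheory.Limits AlgebraicGeometry IsLocalRing TopologicalSpace Opposite

noncomputable section

namespace Groth.Agent.PunctInt

variable (A : Type u) [CommRing A] [IsNoetherianRing A] [IsReduced A] [IsLocalRing A]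

/-- Restriction to the punctured spectrum. -/
def res : A →+* Γ(Spec (CommRingCat.of A), FEt.puncturedSpec A) :=
  ((Spec (CommRingCat.of A)).presheaf.map (homOfLE (le_top : FEt.puncturedSpec A ≤ ⊤)).op).hom.comp
    (Scheme.ΓSpecIso (CommRingCat.of A)).inv.hom

variable {A}

omit [IsNoetherianRing A] [IsReduced A] in
theorem basicOpen_le {t : A} (ht : t ∈ maximalIdeal A) :
    (Spec (CommRingCat.of A)).basicOpen ((Scheme.ΓSpecIso (CommRingCat.of A)).inv t) ≤ FEt.puncturedSpec A := by
  intro q hq hqc
  rw [Set.mem_singleton_iff] at hqc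
  subst hqc
  rw [basicOpen_eq_of_affine] at hq
  exact hq ht

omit [IsNoetherianRing A] [IsReduced A] in
theorem basicOpen_res {t : A} (ht : t ∈ maximalIdeal A) :
    (Spec (CommRingCat.of A)).basicOpen (res A t) =
      (Spec (CommRingCat.of A)).basicOpen ((Scheme.ΓSpecIso (CommRingCat.of A)).inv t) := by
  show (Spec (CommRingCat.of A)).basicOpen ((Spec (CommRingCat.of A)).presheaf.map _ _) = _
  rw [Scheme.basicOpen_res]
  exact inf_eq_right.2 (basicOpen_le ht)

omit [IsNoetherianRing A] [IsReduced A] in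
theorem res_res {t : A} (ht : t ∈ maximalIdeal A) (a : A) :
    ((Spec (CommRingCat.of A)).presheaf.map (homOfLE (basicOpen_le ht)).op).hom (res A a) =
      algebraMap Γ(Spec (CommRingCat.of A), ⊤)
        Γ(Spec (CommRingCat.of A), (Spec (CommRingCat.of A)).basicOpen ((Scheme.ΓSpecIso (CommRingCat.of A)).inv t))
        ((Scheme.ΓSpecIso (CommRingCat.of A)).inv a) :=
  (ConcreteCategory.congr_hom ((Spec (CommRingCat.of A)).presheaf.map_comp (homOfLE (le_top : FEt.puncturedSpec A ≤ ⊤)).op (homOfLE (basicOpen_le ht)).op) _).symm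

omit [IsReduced A] in
theorem isCompact_punctured : IsCompact (FEt.puncturedSpec A : Set ↥(Spec (CommRingCat.of A))) := by
  haveI : NoetherianSpace ↥(Spec (CommRingCat.of A)) := inferInstanceAs (NoetherianSpace (PrimeSpectrum A))
  exact NoetherianSpace.isCompact _

omit [IsReduced A] in
/-- Denominators can be cleared by powers of an element of the maximal ideal. -/
theorem exists_pow_mul {t : A} (ht : t ∈ maximalIdeal A) (b : Γ(Spec (CommRingCat.of A), FEt.puncturedSpec A)) :
    ∃ (n : ℕ) (c : A), res A t ^ n * b = res A c := by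
  let S := Spec (CommRingCat.of A)
  let e := Scheme.ΓSpecIso (CommRingCat.of A)
  let f := e.inv t
  haveI := (isAffineOpen_top S).isLocalization_basicOpen f
  let ρ := (S.presheaf.map (homOfLE (basicOpen_le ht)).op).hom
  have hρ : ∀ a, ρ (res A a) = algebraMap Γ(S, ⊤) Γ(S, S.basicOpen f) (e.inv a) := fun a =>
    (ConcreteCategory.congr_hom (S.presheaf.map_comp (homOfLE (le_top : FEt.puncturedSpec A ≤ ⊤)).op (homOfLE (basicOpen_le ht)).op) _).symm
  obtain ⟨⟨c', _, k, rfl⟩, hk⟩ := IsLocalization.surj (Submonoid.powers f) (ρ b)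
  obtain ⟨c, rfl⟩ : ∃ c, e.inv c = c' := e.commRingCatIsoToRingEquiv.symm.surjective c'
  have h0 : ρ (res A t ^ k * b - res A c) = 0 := by
    rw [map_sub, map_mul, map_pow, sub_eq_zero, hρ, hρ, mul_comm, ← map_pow]
    exact hk
  obtain ⟨l, hl⟩ := exists_pow_mul_eq_zero_of_res_basicOpen_eq_zero_of_isCompact S
    (U := FEt.puncturedSpec A) isCompact_punctured (res A t ^ k * b - res A c) (res A t) (by
      have h1 : (S.presheaf.map (eqToHom (basicOpen_res ht)).op).hom (ρ (res A t ^ k * b - res A c)) = 0 := by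
        rw [h0, map_zero]
      rw [← h1]
      exact ConcreteCategory.congr_hom (S.presheaf.map_comp (homOfLE (basicOpen_le ht)).op (eqToHom (basicOpen_res ht)).op) _)
  refine ⟨l + k, t ^ l * c, ?_⟩
  rw [mul_sub, sub_eq_zero] at hl
  rw [pow_add, mul_assoc, hl, map_mul, map_pow]

theorem exists_nonZeroDivisor (h : maximalIdeal A ∉ minimalPrimes A) :
    ∃ a ∈ maximalIdeal A, a ∈ nonZeroDivisors A := by
  by_contra hno
  push Not at hno
  have hfin := Ideal.finite_minimalPrimes_of_isNoetherianRing A ⊥
  have hsub : ((maximalIdeal A : Ideal A) : Set A) ⊆ ⋃ p ∈ (↑hfin.toFinset : Set (Ideal A)), (p : Set A) := fun a ha => by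
    have hnz := hno a ha
    rw [mem_nonZeroDivisors_iff_right] at hnz
    push Not at hnz
    obtain ⟨y, hy, hy0⟩ := hnz
    rw [hfin.coe_toFinset, Ideal.iUnion_minimalPrimes]
    have hrad : (⊥ : Ideal A).radical = ⊥ := nilradical_eq_zero A
    rw [Set.mem_setOf_eq, hrad]
    exact ⟨y, hy0, by simpa [mul_comm] using hy⟩
  obtain ⟨p, hp, hle⟩ := (Ideal.subset_union_prime (s := hfin.toFinset) (f := id) (maximalIdeal A) (maximalIdeal A)
    (fun s hs _ _ => (hfin.mem_toFinset.1 hs).1.1)).1 hsub
  have hp' := hfin.mem_toFinset.1 hp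
  exact h ((maximalIdeal.isMaximal A).eq_of_le hp'.1.1.ne_top hle ▸ hp')

theorem res_injective_aux {t : A} (ht : t ∈ maximalIdeal A) {c : A} (hc : res A c = 0) : ∃ n : ℕ, t ^ n * c = 0 := by
  let S := Spec (CommRingCat.of A)
  let e := Scheme.ΓSpecIso (CommRingCat.of A)
  let f := e.inv t
  haveI := (isAffineOpen_top S).isLocalization_basicOpen f
  have h0 : algebraMap Γ(S, ⊤) Γ(S, S.basicOpen f) (e.inv c) = 0 := by
    have h1 : (S.presheaf.map (homOfLE (basicOpen_le ht)).op).hom (res A c) = 0 := by rw [hc, map_zero]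
    rw [← h1]
    exact ConcreteCategory.congr_hom (S.presheaf.map_comp (homOfLE (le_top : FEt.puncturedSpec A ≤ ⊤)).op (homOfLE (basicOpen_le ht)).op) _
  obtain ⟨⟨m, k, rfl⟩, hm⟩ := (IsLocalization.map_eq_zero_iff (Submonoid.powers f) _ _).1 h0
  refine ⟨k, e.commRingCatIsoToRingEquiv.symm.injective ?_⟩
  rw [map_zero, map_mul, map_pow]
  exact hm

set_option maxHeartbeats 1000000 in
theorem main (hdim : ∀ (m' : Ideal ↥(integralClosure A (FractionRing A))) [m'.IsMaximal],
      m'.comap (algebraMap A ↥(integralClosure A (FractionRing A))) = maximalIdeal A →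
        2 ≤ ringKrullDim (Localization.AtPrime m')) :
    (res A).IsIntegral ∧ ∃ φ : Γ(Spec (CommRingCat.of A), FEt.puncturedSpec A) →+* ↥(integralClosure A (FractionRing A)),
      Function.Injective φ ∧ φ.comp (res A) = algebraMap A ↥(integralClosure A (FractionRing A)) := by
  let K := FractionRing A
  let A' := integralClosure A K
  haveI : Algebra.IsIntegral A A' := IsIntegralClosure.isIntegral_algebra A K
  haveI : FaithfulSMul A A' := (faithfulSMul_iff_algebraMap_injective A A').2 fun x y h =>
    IsFractionRing.injective A K (congrArg Subtype.val h)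
  have hdim' : ∀ (m' : Ideal A') [m'.IsMaximal],
      m'.comap (algebraMap A A') = maximalIdeal A → 2 ≤ m'.height := fun m' _ h => by
    have := hdim m' h
    rw [IsLocalization.AtPrime.ringKrullDim_eq_height m' (Localization.AtPrime m')] at this
    exact WithBot.coe_le_coe.1 this
  have hmin : maximalIdeal A ∉ minimalPrimes A := fun h => by
    obtain ⟨N, hN, hNover⟩ := Ideal.exists_maximal_ideal_liesOver_of_isIntegral (R := A) (S := A') (maximalIdeal A)
    haveI := hN
    have hNm : N.comap (algebraMap A A') = maximalIdeal A := hNover.over.symm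
    have h2 := hdim' N hNm
    rw [PrimeSpectrum.height_eq_orderHeight ⟨N, inferInstance⟩] at h2
    have h3 : IsMin (⟨N, inferInstance⟩ : PrimeSpectrum A') := fun q hq => by
      by_contra hlt
      have h4 : q.asIdeal.comap (algebraMap A A') < N.comap (algebraMap A A') :=
        Ideal.IsIntegral.comap_lt_comap (lt_of_le_not_ge hq hlt)
      rw [hNm] at h4
      exact h4.not_ge (h.2 ⟨inferInstance, bot_le⟩ h4.le)
    rw [Order.height_eq_zero.2 h3] at h2
    exact absurd h2 (by decide)
  obtain ⟨a, ha, hanz⟩ := exists_nonZeroDivisor hmin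
  let S := Spec (CommRingCat.of A)
  let e := Scheme.ΓSpecIso (CommRingCat.of A)
  let f := e.inv a
  haveI := (isAffineOpen_top S).isLocalization_basicOpen f
  let ι : Γ(S, ⊤) →+* K := (algebraMap A K).comp e.hom.hom
  have hιinv : ∀ c, ι (e.inv c) = algebraMap A K c := fun c =>
    congrArg (algebraMap A K) (e.commRingCatIsoToRingEquiv.apply_symm_apply c)
  have hu : IsUnit (ι f) := by
    rw [hιinv]; exact IsLocalization.map_units K (⟨a, hanz⟩ : nonZeroDivisors A)
  let ψ : Γ(S, FEt.puncturedSpec A) →+* K :=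
    (IsLocalization.Away.lift (S := Γ(S, S.basicOpen f)) f hu).comp (S.presheaf.map (homOfLE (basicOpen_le ha)).op).hom
  have hψ : ∀ c, ψ (res A c) = algebraMap A K c := fun c => by
    rw [← hιinv, ← IsLocalization.Away.lift_eq (S := Γ(S, S.basicOpen f)) f hu (e.inv c)]
    show IsLocalization.Away.lift (S := Γ(S, S.basicOpen f)) f hu
      ((S.presheaf.map (homOfLE (basicOpen_le ha)).op).hom (res A c)) = _
    rw [res_res ha c]
  have hint : ∀ b, IsIntegral A (ψ b) := fun b => isIntegral_of_forall_pow _ hdim' fun t ht => by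
    obtain ⟨n, c, hc⟩ := exists_pow_mul ht b
    refine ⟨n, ?_⟩
    rw [show algebraMap A K t ^ n * ψ b = ψ (res A t ^ n * b) by rw [map_mul, map_pow, hψ], hc, hψ]
    exact isIntegral_algebraMap
  have hinj : Function.Injective ψ := by
    rw [injective_iff_map_eq_zero]
    intro b hb
    refine S.sheaf.eq_of_locally_eq' (fun t : maximalIdeal A => S.basicOpen (res A t.1)) (FEt.puncturedSpec A)
      (fun t => homOfLE (Scheme.basicOpen_le _ _)) ?_ b 0 fun t => ?_
    · intro q hq
      obtain ⟨t, ht, htq⟩ : ∃ t ∈ maximalIdeal A, t ∉ (q : PrimeSpectrum A).asIdeal := by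
        by_contra hno
        push Not at hno
        exact hq (PrimeSpectrum.ext (le_antisymm (le_maximalIdeal (q : PrimeSpectrum A).2.ne_top) hno))
      refine Opens.mem_iSup.2 ⟨⟨t, ht⟩, ?_⟩
      rw [basicOpen_res ht, basicOpen_eq_of_affine]
      exact htq
    · obtain ⟨n, c, hc⟩ := exists_pow_mul t.2 b
      have hc0 : c = 0 := IsFractionRing.injective A K (by rw [← hψ, ← hc, map_mul, hb, mul_zero, map_zero])
      subst hc0
      rw [map_zero] at hc
      have hu' : IsUnit ((S.presheaf.map (homOfLE (Scheme.basicOpen_le S (res A t.1))).op).hom (res A t.1)) :=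
        RingedSpace.isUnit_res_basicOpen _ (res A t.1)
      have h1 := congrArg (S.presheaf.map (homOfLE (Scheme.basicOpen_le S (res A t.1))).op).hom hc
      rw [map_mul, map_pow, map_zero] at h1
      show (S.presheaf.map (homOfLE (Scheme.basicOpen_le S (res A t.1))).op).hom b = (S.presheaf.map _).hom 0
      rw [map_zero]
      exact (hu'.pow n).mul_right_eq_zero.1 h1
  refine ⟨fun b => ?_, ⟨ψ.codRestrict A'.toSubring hint, fun x y h => hinj (congrArg Subtype.val h),
    RingHom.ext fun c => Subtype.ext (hψ c)⟩⟩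
  obtain ⟨p, hp, hpb⟩ := hint b
  refine ⟨p, hp, hinj ?_⟩
  rw [Polynomial.hom_eval₂, map_zero, show ψ.comp (res A) = algebraMap A K from RingHom.ext hψ]
  exact hpb

end Groth.Agent.PunctInt

end
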